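import Cfsg.Agent.H128.Rg.RefAbs
import Cfsg.Agent.H964.Rg.Slo

/-!
# S3691: the list properties of the sections in the refined single cases (helper198)

* `slo_ref`, `sls_ref` : from a tuple `(q, n, k, r, l)` of helper2's list and `r ∣ |H|`, `l ∣ |H|`
* `slo_2_20`, `sls_2_20`, `slo_2_18`, `sls_2_18`, `slo_3_19` : the instances for `PΩ^-_22(2)`, `PΩ^-_20(2)`, `PΩ^-_20(3)`
* `slo_vac` : the isometric list property of dimension `2 m - 2` for a group containing a prime of order `2 m - 2` without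
  an invariant subspace of dimension at most two with a singular vector
-/

set_option autoImplicit false
set_option linter.unusedSectionVars false

namespace Cfsg.Agent.H198.Mr

open Module QuadraticMap Cfsg Cfsg.Geo Cfsg.Agent.LieClassical.OrthCore Cfsg.Agent.LieClassical.OrthTrans
  Cfsg.Agent.H454.Reg Cfsg.Agent.H884.El Cfsg.Agent.H955 Cfsg.Agent.H954.TSing Cfsg.Agent.H449.Reg Cfsg.Agent.H964.Rg
open Cfsg.Agent.H951 (fx cm Inv)
open scoped MatrixGroups Matrix

universe u v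

variable {ι : Type} [Fintype ι] [DecidableEq ι] {F : Type} [Field F] [Fintype F] {Q : QuadraticForm F (ι → F)}
  {H : Subgroup (GL ι F)}

/-- isometric sections -/
theorem slo_ref (hKS : ∀ (T : Type) [Group T] [Finite T] [IsSimpleGroup T], IsKnownSimple' T) {q n k r l e : ℕ}
    (hm : (q, n, k, r, l) ∈ H2.Rb.refList) (hF : Nat.card F = q) (hk : 2 ≤ k) (he : 2 ≤ e) (hk1 : Fintype.card ι < n + k)
    (he1 : Fintype.card ι < n + e) (hr : PP q k r) (hl : PP q e l) (hrH : r ∣ Nat.card H) (hlH : l ∣ Nat.card H) :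
    SLO Q H n (Nat.gcd n k) := by
  intro U R hS hU hR h0
  rw [← hF] at hr hl
  exact H128.Rg.ref_abs hKS hS.nd (hS.le_O h0) hm hF hU (hS.dvd hr hk (by omega) (by omega) hrH)
    (hS.dvd hl he (by omega) (by omega) hlH)

/-- symplectic sections -/
theorem sls_ref (hKS : ∀ (T : Type) [Group T] [Finite T] [IsSimpleGroup T], IsKnownSimple' T) (h2 : (2 : F) = 0)
    {q n k r l e : ℕ}
    (hm : (q, n, k, r, l) ∈ H2.Rb.refList) (hF : Nat.card F = q) (hk : 2 ≤ k) (he : 2 ≤ e) (hk1 : Fintype.card ι < n + k)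
    (he1 : Fintype.card ι < n + e) (hr : PP q k r) (hl : PP q e l) (hrH : r ∣ Nat.card H) (hlH : l ∣ Nat.card H) :
    SLS Q H n (Nat.gcd n k) := by
  intro U R hS hU hR
  rw [← hF] at hr hl
  exact H128.Rg.ref_sp hKS h2 hS.nd hS.polar_eq hm hF hU (hS.dvd hr hk (by omega) (by omega) hrH)
    (hS.dvd hl he (by omega) (by omega) hlH)

theorem pp_2_20_41 : PP 2 20 41 := by
  refine ⟨by norm_num, ?_⟩
  rw [orderOf_eq_iff (by norm_num)]
  exact ⟨by decide +kernel, by decide +kernel⟩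

theorem pp_2_18_19 : PP 2 18 19 := by
  refine ⟨by norm_num, ?_⟩
  rw [orderOf_eq_iff (by norm_num)]
  exact ⟨by decide +kernel, by decide +kernel⟩

theorem pp_2_9_73 : PP 2 9 73 := by
  refine ⟨by norm_num, ?_⟩
  rw [orderOf_eq_iff (by norm_num)]
  exact ⟨by decide +kernel, by decide +kernel⟩

theorem pp_3_18_37 : PP 3 18 37 := by
  refine ⟨by norm_num, ?_⟩
  rw [orderOf_eq_iff (by norm_num)]
  exact ⟨by decide +kernel, by decide +kernel⟩

theorem pp_3_9_757 : PP 3 9 757 := by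
  refine ⟨by norm_num, ?_⟩
  rw [orderOf_eq_iff (by norm_num)]
  exact ⟨by decide +kernel, by decide +kernel⟩

theorem two_eq_zero (hF : Nat.card F = 2) : (2 : F) = 0 := by
  have h1 : ((Fintype.card F : ℕ) : F) = 0 := Nat.cast_card_eq_zero F
  rw [← Nat.card_eq_fintype_card, hF] at h1
  exact_mod_cast h1

/-- `q = 2`, dimension 20, the primes 41 and 73 (or 41 and 19) -/
theorem slo_2_20 (hKS : ∀ (T : Type) [Group T] [Finite T] [IsSimpleGroup T], IsKnownSimple' T) (hF : Nat.card F = 2)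
    (hι : Fintype.card ι = 22) (h41 : 41 ∣ Nat.card H) (hl : 73 ∣ Nat.card H ∨ 19 ∣ Nat.card H) : SLO Q H 20 20 := by
  rcases hl with hl | hl
  · exact slo_ref hKS (q := 2) (n := 20) (k := 20) (r := 41) (l := 73) (by decide) hF (by omega) (by omega) (by omega)
      (by omega) pp_2_20_41 pp_2_9_73 h41 hl
  · exact slo_ref hKS (q := 2) (n := 20) (k := 20) (r := 41) (l := 19) (by decide) hF (by omega) (by omega) (by omega)
      (by omega) pp_2_20_41 pp_2_18_19 h41 hl

theorem sls_2_20 (hKS : ∀ (T : Type) [Group T] [Finite T] [IsSimpleGroup T], IsKnownSimple' T) (hF : Nat.card F = 2)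
    (hι : Fintype.card ι = 22) (h41 : 41 ∣ Nat.card H) (hl : 73 ∣ Nat.card H ∨ 19 ∣ Nat.card H) : SLS Q H 20 20 := by
  rcases hl with hl | hl
  · exact sls_ref hKS (two_eq_zero hF) (q := 2) (n := 20) (k := 20) (r := 41) (l := 73) (by decide) hF (by omega) (by omega)
      (by omega) (by omega) pp_2_20_41 pp_2_9_73 h41 hl
  · exact sls_ref hKS (two_eq_zero hF) (q := 2) (n := 20) (k := 20) (r := 41) (l := 19) (by decide) hF (by omega) (by omega)
      (by omega) (by omega) pp_2_20_41 pp_2_18_19 h41 hl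

/-- `q = 2`, dimension 18, the primes 19 and 73 -/
theorem slo_2_18 (hKS : ∀ (T : Type) [Group T] [Finite T] [IsSimpleGroup T], IsKnownSimple' T) (hF : Nat.card F = 2)
    (hι : Fintype.card ι = 20) (h19 : 19 ∣ Nat.card H) (h73 : 73 ∣ Nat.card H) : SLO Q H 18 18 :=
  slo_ref hKS (q := 2) (n := 18) (k := 18) (r := 19) (l := 73) (by decide) hF (by omega) (by omega) (by omega)
    (by omega) pp_2_18_19 pp_2_9_73 h19 h73

theorem sls_2_18 (hKS : ∀ (T : Type) [Group T] [Finite T] [IsSimpleGroup T], IsKnownSimple' T) (hF : Nat.card F = 2)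
    (hι : Fintype.card ι = 20) (h19 : 19 ∣ Nat.card H) (h73 : 73 ∣ Nat.card H) : SLS Q H 18 18 :=
  sls_ref hKS (two_eq_zero hF) (q := 2) (n := 18) (k := 18) (r := 19) (l := 73) (by decide) hF (by omega) (by omega)
    (by omega) (by omega) pp_2_18_19 pp_2_9_73 h19 h73

/-- `q = 3`, dimension 19, the primes 37 and 757 -/
theorem slo_3_19 (hKS : ∀ (T : Type) [Group T] [Finite T] [IsSimpleGroup T], IsKnownSimple' T) (hF : Nat.card F = 3)
    (hι : Fintype.card ι = 20) (h37 : 37 ∣ Nat.card H) (h757 : 757 ∣ Nat.card H) : SLO Q H 19 1 :=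
  slo_ref hKS (q := 3) (n := 19) (k := 18) (r := 37) (l := 757) (by decide) hF (by omega) (by omega) (by omega)
    (by omega) pp_3_18_37 pp_3_9_757 h37 h757

/-- the fixed plane of an element of order `r_{2m-2}` in the minus type space of dimension `2m` is hyperbolic -/
theorem minus_fx (hQ : Nondeg Q) {m : ℕ} (hn : finrank F (ι → F) = 2 * m) (hm : 5 ≤ m) (hP : ¬ IsPlus Q) {r : ℕ}
    (hr : PP (Nat.card F) (2 * m - 2) r) {x : GL ι F} (hx : Iso Q (lin x) r) (hx1 : x ≠ 1) :
    finrank F (cm (lin x)) = 2 * m - 2 ∧ finrank F (fx (lin x)) = 2 ∧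
      ∃ v ∈ fx (lin x), Q v = 0 ∧ v ≠ 0 := by
  obtain ⟨hcm, hnp⟩ := hx.even_case hQ (lin_ne_one hx1) hr ⟨m - 1, by omega⟩ (by rw [hn]; omega)
  have hfx : finrank F (fx (lin x)) = 2 := by have := hx.finrank_add; omega
  refine ⟨hcm, hfx, ?_⟩
  have h1 := hx.isPlus_fx hQ (by rw [hn]; exact even_two_mul m) (by rw [hcm]; exact ⟨m - 1, by omega⟩)
  have h2 : IsPlus (res Q (fx (lin x))) := by
    by_contra h3
    exact hP (h1.2 ⟨fun h4 => absurd h4 hnp, fun h4 => absurd h4 h3⟩)
  obtain ⟨W, hW, hd⟩ := h2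
  rw [hfx] at hd
  have hW0 : W ≠ ⊥ := by
    rintro rfl
    rw [finrank_bot] at hd
    omega
  obtain ⟨w, hw, hw0⟩ := Submodule.exists_mem_ne_zero_of_ne_bot hW0
  exact ⟨w, w.2, hW w hw, fun h3 => hw0 (Subtype.ext h3)⟩

/-- **no singular vector in a small invariant subspace**: the isometric list property of dimension `2 m - 2` is vacuous -/
theorem slo_vac (hQ : Nondeg Q) (hP : ¬ IsPlus Q) {m r d : ℕ} (hm : 5 ≤ m) (hι : Fintype.card ι = 2 * m)
    (hr : PP (Nat.card F) (2 * m - 2) r) (hrH : r ∣ Nat.card H)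
    (hno : ∀ (S : Submodule F (ι → F)) (x : ι → F), Q x = 0 → x ≠ 0 → x ∈ S → finrank F S ≤ 2 →
      H ≤ subspaceStabilizer S → False) : SLO Q H (2 * m - 2) d := by
  intro U R hS hU hR h0
  exfalso
  by_cases hR0 : R = ⊥
  · subst hR0
    have hV : finrank F (ι → F) = 2 * m := by rw [Module.finrank_fintype_fun_eq_card, hι]
    obtain ⟨g, hg, hiso, hgr, hg1⟩ := exists_elt (Q := Q) hS.iso hr (by omega) hrH
    obtain ⟨hcm, hfx, x, hx, hx1, hx0⟩ := minus_fx hQ hV hm hP hr hiso hg1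
    obtain ⟨-, -, hor, -⟩ := elt_data hr (by omega) (by rw [hι]; omega)
      (by rw [← H251.GeoCard.toLin_pow, hgr]; exact lin_one) (lin_ne_one hg1)
    have hst := hS.stU
    rw [sup_bot_eq] at hst
    have h1 : cm (lin g) ≤ U := by
      rcases hor _ (inv_of_mem (hst hg)) with h2 | h2
      · have h3 := Submodule.finrank_mono h2
        omega
      · exact h2
    have h2 : cm (lin g) = U := Submodule.eq_of_le_of_finrank_eq h1 (by rw [hcm, hU])
    have h3 : perp Q U = fx (lin g) := by rw [← h2]; exact perp_cm hQ hiso.iso hiso.ne0 hiso.pow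
    refine hno (fx (lin g)) x hx1 hx0 hx hfx.le ?_
    rw [← h3]
    exact stab_perp hS.iso hst
  · obtain ⟨x, hx, hx0⟩ := Submodule.exists_mem_ne_zero_of_ne_bot hR0
    exact hno R x (h0 x hx) hx0 hx (by omega) hS.stR

end Cfsg.Agent.H198.Mr
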