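import Cfsg.Agent.H198.Mr.List
import Cfsg.Agent.H198.Mr.Slo
import Cfsg.Agent.H173.Rg.MinusG
import Cfsg.Agent.H96.Rg.MinOdd
import Cfsg.Agent.H449.Mn.Fac
import Cfsg.Agent.H655.Rg.KExt3

/-!
# S3691: `PΩ^-_20(2)`, `PΩ^-_20(3)`, `PΩ^-_22(2)` (helper198)

* `kx_ge` : factors normalising a quadratic field, `m ≥ 11` odd
* `ten_bad`, `eleven_bad` : one of the factors fixes a nonsingular point and is large there
-/

set_option autoImplicit false
set_option linter.unusedSectionVars false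

namespace Cfsg.Agent.H198.Mr

open Module QuadraticMap Cfsg Cfsg.Geo Cfsg.Agent.LieClassical.OrthCore Cfsg.Agent.LieClassical.OrthTrans
  Cfsg.Agent.H454.Reg Cfsg.Agent.H884.El Cfsg.Agent.H955 Cfsg.Agent.H954.TSing Cfsg.Agent.H449.Reg Cfsg.Agent.H964.Rg
open Cfsg.Agent.H951 (fx cm Inv)
open Cfsg.Agent.H278.Cov (Red Ext)
open Cfsg.Agent.LieClassical.OrthFinite (glEquiv glEquiv_apply)
open Cfsg.Agent.H659.CovCore (ext_transport glReindex_coe vecEquiv vecEquiv_gl)
open Cfsg.Agent.H173.Rg (minus_mem_even minus_mem_odd minus_even_no)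
open Cfsg.Agent.H449.Mn (minus_fac)
open scoped MatrixGroups Matrix

universe u v

section gen

variable {ι : Type} [Fintype ι] [DecidableEq ι] {F : Type v} [Field F] [Fintype F] {Q : QuadraticForm F (ι → F)}
variable {G : Type u} [Group G] [Finite G] {T : Subgroup G} [T.Normal] {hG : Good Q} {eT : T ≃* POmega F (⇑Q)}
  {hI : Ind (eP hG eT)} {X Y : Subgroup G} {p f m N : ℕ}

/-- a prime divisor of `|T|` of order at least three divides the order of a factor -/
theorem mem_or (h : Cx hI X Y p f m N) {k r : ℕ} (hk : 3 ≤ k) (hr : PP p (f * k) r) (hT : r ∣ Nat.card T) :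
    r ∣ Nat.card (X.subgroupOf T) ∨ r ∣ Nat.card (Y.subgroupOf T) :=
  h.fac.prime_dvd hr.prime hT (h.out k r hk hr)

theorem mem_or' (h : Cx hI X Y p f m N) {k r : ℕ} (he : Even k) (hk : 3 ≤ k) (hmk : m < k) (hkN : k ≤ N)
    (hr : PP p (f * k) r) (hd : r ∣ (p ^ f) ^ k - 1) :
    r ∣ Nat.card (X.subgroupOf T) ∨ r ∣ Nat.card (Y.subgroupOf T) :=
  mem_or h hk hr (by simpa using h.dvd k r 1 he hk hmk hkN hr (by simpa using hd))

/-- a factor containing a prime of order `2 m` is irreducible -/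
theorem not_red (h : Cx hI X Y p f m N) (hm : 5 ≤ m) {r : ℕ} (hr : PP (Nat.card F) (2 * m) r)
    (hX : r ∣ Nat.card (X.subgroupOf T)) : ¬ Red (preG eT X) := by
  rintro ⟨W, hW0, hW1, hW⟩
  obtain ⟨g, hg, hiso, hgr, hg1⟩ := exists_elt (Q := Q) (preG_le (eT := eT) (X := X)) hr (by omega) (hX.trans card_dvd_preG)
  obtain ⟨-, hcm, hor, -⟩ := elt_data hr (by omega) (by rw [h.dim]; omega)
    (by rw [← H251.GeoCard.toLin_pow, hgr]; exact lin_one) (lin_ne_one hg1)
  have hadd := hiso.finrank_add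
  rw [h.finrank_V] at hadd
  rcases hor W (inv_of_mem (hW hg)) with h1 | h1
  · apply hW0
    rw [← Submodule.finrank_eq_zero (R := F)]
    have := Submodule.finrank_mono h1
    omega
  · apply hW1
    apply Submodule.eq_top_of_finrank_eq
    rw [h.finrank_V]
    have := Submodule.finrank_mono h1
    have h2 := Submodule.finrank_le W
    rw [h.finrank_V] at h2
    omega

theorem field_of_list (hirr : ¬ Red (preG eT X)) {k : ℕ}
    (h1 : Red (preG eT X) ∨ Ext (Nat.gcd (2 * m) k) (preG eT X)) :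
    ∃ (s : ℕ) (K : Subalgebra F (Matrix ι ι F)), s.Prime ∧ s ∣ 2 * m ∧ IsFieldSubalgebra s K ∧
      preG eT X ≤ subalgebraNormalizer K := by
  obtain ⟨s, K, hs, hsd, hK, hle⟩ := h1.resolve_left hirr
  exact ⟨s, K, hs, hsd.trans (Nat.gcd_dvd_left _ _), hK, hle⟩

theorem ex_two_of_list {d : ℕ} (hd : d = 2) (h1 : Red (preG eT X) ∨ Ext d (preG eT X)) :
    Red (preG eT X) ∨ Ex2 (preG eT X) := by
  subst hd
  rcases h1 with h1 | ⟨s, K, hs, hsd, hK, hle⟩
  · exact Or.inl h1
  · obtain rfl : s = 2 := (Nat.prime_dvd_prime_iff_eq hs Nat.prime_two).1 hsd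
    exact Or.inr ⟨K, hK, hle⟩

end gen

/-! ### quadratic fields, `m ≥ 11` odd -/

section

variable {ι : Type} [Fintype ι] [DecidableEq ι] {F : Type v} [Field F]

theorem aext_pre {H : Subgroup (GL ι F)} (hE : Ex2 H) : AExt 2 (H.map (glEquiv ι F).toMonoidHom) := by
  obtain ⟨K, hK, hle⟩ := hE
  let e : ι ≃ Fin (Fintype.card ι) := Fintype.equivFin ι
  obtain ⟨E', hE', hle'⟩ := ext_transport e.symm (H := H.map (glReindex (F := F) e).toMonoidHom) hK (by
    rintro _ ⟨_, ⟨g, hg, rfl⟩, rfl⟩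
    have h1 : glReindex (F := F) e.symm (glReindex (F := F) e g) = g := by
      apply Units.ext
      ext i j
      simp [glReindex_coe, Matrix.coe_reindexAlgEquiv, Matrix.reindex_apply]
    change glReindex (F := F) e.symm (glReindex (F := F) e g) ∈ _
    rw [h1]
    exact hle hg)
  refine ⟨_, vecEquiv F e, E', Nat.prime_two, hE', ?_⟩
  rintro _ ⟨_, ⟨g, hg, rfl⟩, rfl⟩
  have h2 : cj (vecEquiv F e) (glEquiv ι F g) = glReindex (F := F) e g := by
    apply Units.ext
    apply Matrix.ext_of_mulVec_single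
    intro i
    rw [cj_apply, glEquiv_apply, vecEquiv_gl, LinearEquiv.apply_symm_apply]
  change cj (vecEquiv F e) (glEquiv ι F g) ∈ _
  rw [h2]
  exact hle' ⟨g, hg, rfl⟩

end

section

variable {ι : Type} [Fintype ι] [DecidableEq ι] {F : Type v} [Field F] [Fintype F] {Q : QuadraticForm F (ι → F)}
variable {G : Type u} [Group G] [Finite G] {T : Subgroup G} [T.Normal] {hG : Good Q} {eT : T ≃* POmega F (⇑Q)}
  {hI : Ind (eP hG eT)} {X Y : Subgroup G} {p f m N : ℕ}

/-- (J1) for `m ≥ 11` -/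
theorem kx_ge (hP5 : H659.CovCore.S5948Stmt.{v}) (h : Cx hI X Y p f m (2 * m)) (hm : 11 ≤ m) (hmo : Odd m)
    (hB : Big T X p f (2 * m)) (hE : Ex2 (preG eT X))
    (hN : m.Prime → ∃ N, N ∣ Nat.card (preG eT X) ∧ N.Coprime ((p ^ f) ^ (2 * m) - 1) ∧ ¬ N ∣ 2 * m)
    (ht : ∃ t, PP (Nat.card F) (m - 1) t ∧ t ∣ Nat.card (preG eT X)) :
      (∀ t, PP (Nat.card F) (2 * m - 4) t → t ∣ Nat.card (preG eT X)) ∨
      (∀ t, PP (Nat.card F) (2 * m - 2) t → t ∣ Nat.card (preG eT X)) := by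
  obtain ⟨r, a, hr, hb, hd, hdX⟩ := hB
  obtain ⟨g, hg, ho⟩ := h.elt hr (by omega) (by omega) hdX
  obtain ⟨t, ht, htX⟩ := ht
  have hc : Nat.card ((preG eT X).map (glEquiv ι F).toMonoidHom) = Nat.card (preG eT X) :=
    Subgroup.card_map_of_injective (glEquiv ι F).injective
  have h1 := H655.Rg.kext_odd' hP5 (A := (preG eT X).map (glEquiv ι F).toMonoidHom) hmo hm h.finrank_V hG.nondeg
    ((map_le_E hG).trans fun g hg => E_le_O hg) (aext_pre hE) h.prime h.fcard hr (g := glEquiv ι F g) ⟨g, hg, rfl⟩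
    (by rw [← ho]; exact MulEquiv.orderOf_eq _ g) hb hd (t := t) (by rw [← h.card]; exact ht) (by rw [hc]; exact htX)
    (by rw [hc]; exact hN)
  rw [hc, ← h.card] at h1
  exact h1

end

/-! ### numbers -/

theorem pp_2_16_257 : PP 2 16 257 := by
  refine ⟨by norm_num, ?_⟩
  rw [orderOf_eq_iff (by norm_num)]
  exact ⟨by decide +kernel, by decide +kernel⟩

theorem pp_2_7_127 : PP 2 7 127 := by
  refine ⟨by norm_num, ?_⟩
  rw [orderOf_eq_iff (by norm_num)]
  exact ⟨by decide +kernel, by decide +kernel⟩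

theorem pp_2_22_683 : PP 2 22 683 := by
  refine ⟨by norm_num, ?_⟩
  rw [orderOf_eq_iff (by norm_num)]
  exact ⟨by decide +kernel, by decide +kernel⟩

theorem pp_2_10_11 : PP 2 10 11 := by
  refine ⟨by norm_num, ?_⟩
  rw [orderOf_eq_iff (by norm_num)]
  exact ⟨by decide +kernel, by decide +kernel⟩

theorem pp_3_20_1181 : PP 3 20 1181 := by
  refine ⟨by norm_num, ?_⟩
  rw [orderOf_eq_iff (by norm_num)]
  exact ⟨by decide +kernel, by decide +kernel⟩

theorem pp_3_16_193 : PP 3 16 193 := by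
  refine ⟨by norm_num, ?_⟩
  rw [orderOf_eq_iff (by norm_num)]
  exact ⟨by decide +kernel, by decide +kernel⟩

theorem pp_3_7_1093 : PP 3 7 1093 := by
  refine ⟨by norm_num, ?_⟩
  rw [orderOf_eq_iff (by norm_num)]
  exact ⟨by decide +kernel, by decide +kernel⟩

section zero

variable {ι : Type} [Fintype ι] [DecidableEq ι] {F : Type} [Field F] [Fintype F] {Q : QuadraticForm F (ι → F)}
variable {G : Type u} [Group G] [Finite G] {T : Subgroup G} [T.Normal] {hG : Good Q} {eT : T ≃* POmega F (⇑Q)}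
  {hI : Ind (eP hG eT)} {X Y : Subgroup G}

theorem two_ne_zero' (hF : Nat.card F = 3) : (2 : F) ≠ 0 := by
  intro h2
  have h1 : ((Fintype.card F : ℕ) : F) = 0 := Nat.cast_card_eq_zero F
  rw [← Nat.card_eq_fintype_card, hF] at h1
  have h3 : (1 : F) = 0 := by
    have h4 : ((3 : ℕ) : F) = 2 + 1 := by push_cast; norm_num
    rw [h4, h2, zero_add] at h1
    exact h1
  exact one_ne_zero h3

/-- `PΩ^-_20(2)` -/
theorem ten_two (hKS : ∀ (T : Type) [Group T] [Finite T] [IsSimpleGroup T], IsKnownSimple' T)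
    (hP5 : H659.CovCore.S5948Stmt.{0}) (h : Cx hI X Y 2 1 10 (2 * 10)) (hP : ¬ IsPlus Q)
    (hT9 : ∀ t, PP 2 9 t → t ∣ Nat.card T) (hT7 : ∀ t, PP 2 7 t → t ∣ Nat.card T)
    (hX : 41 ∣ Nat.card (X.subgroupOf T)) : ∃ v, ResV hI Y v := by
  have hF : Nat.card F = 2 := by rw [h.card]; norm_num
  have hι : Fintype.card ι = 20 := h.dim
  have hirr := not_red h (by norm_num) (r := 41) (by rw [hF]; exact pp_2_20_41) hX
  obtain ⟨hY2, hYt, hY4, hred⟩ := minus_mem_even h (by norm_num) (by decide) hP (r0 := 41) (r2 := 19) (r4 := 257) (t := 73)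
    (t3 := 127) (by rw [hF]; exact pp_2_20_41) (by rw [hF]; exact pp_2_18_19) (by rw [hF]; exact pp_2_16_257)
    (by rw [hF]; exact pp_2_9_73) (by rw [hF]; exact pp_2_7_127) hX
    (mem_or' h (k := 18) (by decide) (by norm_num) (by norm_num) (by norm_num) pp_2_18_19 (by norm_num))
    (mem_or' h (k := 16) (by decide) (by norm_num) (by norm_num) (by norm_num) pp_2_16_257 (by norm_num))
    (mem_or h (k := 9) (by norm_num) pp_2_9_73 (hT9 _ pp_2_9_73))
    (mem_or h (k := 7) (by norm_num) pp_2_7_127 (hT7 _ pp_2_7_127))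
    (by
      rintro (h1 | h1 | h1)
      · exact field_of_list hirr (k := 20) (list_ref hKS h (q := 2) (n := 20) (k := 20) (r := 41) (l := 19) (by decide) hF
          rfl hX h1)
      · exact field_of_list hirr (k := 20) (list_ref hKS h (q := 2) (n := 20) (k := 20) (r := 41) (l := 73) (by decide) hF
          rfl hX h1)
      · exact field_of_list hirr (h.list hP5 (by norm_num) (k := 16) (by norm_num) (by norm_num)
          ⟨257, 1, pp_2_16_257, by norm_num, by norm_num, by simpa using h1⟩))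
    (fun h1 h2 => ex_two_of_list (by decide) (list_ref hKS h.symm (q := 2) (n := 20) (k := 18) (r := 19) (l := 73)
      (by decide) hF rfl h2 h1))
  have h19 := hY2.trans (card_dvd_preG (eT := eT))
  have h73 := hYt.trans (card_dvd_preG (eT := eT))
  rcases minus_fac h (by norm_num) hP (r2 := 19) (by rw [hF]; exact pp_2_18_19) hY2 hred (by
      rcases hY4 with h1 | h1
      · exact Or.inl ⟨257, by rw [hF]; exact pp_2_16_257, h1⟩
      · exact Or.inr (Or.inr ⟨by decide, ⟨73, by rw [hF]; exact pp_2_9_73, hYt⟩, ⟨127, by rw [hF]; exact pp_2_7_127, h1⟩⟩))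
    (slo_2_18 hKS hF hι h19 h73) (fun h2 => absurd (two_eq_zero hF) h2) (fun _ => sls_2_18 hKS hF hι h19 h73)
    with hv | ⟨-, S, x, hx, hx0, hxS, hS2, hYS⟩
  · exact hv
  · exact (minus_even_no h (by norm_num) (by decide) hP (t := 73) (by rw [hF]; exact pp_2_9_73) hYt hx hx0 hxS hS2 hYS).elim

/-- `PΩ^-_20(3)` -/
theorem ten_three (hKS : ∀ (T : Type) [Group T] [Finite T] [IsSimpleGroup T], IsKnownSimple' T)
    (hP5 : H659.CovCore.S5948Stmt.{0}) (h : Cx hI X Y 3 1 10 (2 * 10)) (hP : ¬ IsPlus Q)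
    (hT9 : ∀ t, PP 3 9 t → t ∣ Nat.card T) (hT7 : ∀ t, PP 3 7 t → t ∣ Nat.card T)
    (hX : 1181 ∣ Nat.card (X.subgroupOf T)) : ∃ v, ResV hI Y v := by
  have hF : Nat.card F = 3 := by rw [h.card]; norm_num
  have hι : Fintype.card ι = 20 := h.dim
  have hirr := not_red h (by norm_num) (r := 1181) (by rw [hF]; exact pp_3_20_1181) hX
  obtain ⟨hY2, hYt, hY4, hred⟩ := minus_mem_even h (by norm_num) (by decide) hP (r0 := 1181) (r2 := 37) (r4 := 193)
    (t := 757) (t3 := 1093) (by rw [hF]; exact pp_3_20_1181) (by rw [hF]; exact pp_3_18_37)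
    (by rw [hF]; exact pp_3_16_193) (by rw [hF]; exact pp_3_9_757) (by rw [hF]; exact pp_3_7_1093) hX
    (mem_or' h (k := 18) (by decide) (by norm_num) (by norm_num) (by norm_num) pp_3_18_37 (by norm_num))
    (mem_or' h (k := 16) (by decide) (by norm_num) (by norm_num) (by norm_num) pp_3_16_193 (by norm_num))
    (mem_or h (k := 9) (by norm_num) pp_3_9_757 (hT9 _ pp_3_9_757))
    (mem_or h (k := 7) (by norm_num) pp_3_7_1093 (hT7 _ pp_3_7_1093))
    (fun _ => field_of_list hirr (h.list hP5 (by norm_num) (k := 20) (by norm_num) (by norm_num)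
      ⟨1181, 1, pp_3_20_1181, by norm_num, by norm_num, by simpa using hX⟩))
    (fun h1 h2 => ex_two_of_list (by decide) (list_ref hKS h.symm (q := 3) (n := 20) (k := 18) (r := 37) (l := 757)
      (by decide) hF rfl h2 h1))
  have h37 := hY2.trans (card_dvd_preG (eT := eT))
  have h757 := hYt.trans (card_dvd_preG (eT := eT))
  have hno : ∀ (S : Submodule F (ι → F)) (x : ι → F), Q x = 0 → x ≠ 0 → x ∈ S → finrank F S ≤ 2 →
      preG eT Y ≤ subspaceStabilizer S → False := fun S x hx hx0 hxS hS2 hYS =>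
    minus_even_no h (by norm_num) (by decide) hP (t := 757) (by rw [hF]; exact pp_3_9_757) hYt hx hx0 hxS hS2 hYS
  rcases minus_fac h (by norm_num) hP (r2 := 37) (by rw [hF]; exact pp_3_18_37) hY2 hred (by
      rcases hY4 with h1 | h1
      · exact Or.inl ⟨193, by rw [hF]; exact pp_3_16_193, h1⟩
      · exact Or.inr (Or.inr ⟨by decide, ⟨757, by rw [hF]; exact pp_3_9_757, hYt⟩,
          ⟨1093, by rw [hF]; exact pp_3_7_1093, h1⟩⟩))
    (slo_vac hG.nondeg hP (m := 10) (by norm_num) hι (r := 37) (by rw [hF]; exact pp_3_18_37) h37 hno)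
    (fun _ => slo_3_19 hKS hF hι h37 h757) (fun h2 => absurd h2 (two_ne_zero' hF))
    with hv | ⟨-, S, x, hx, hx0, hxS, hS2, hYS⟩
  · exact hv
  · exact (hno S x hx hx0 hxS hS2 hYS).elim

/-- `PΩ^-_22(2)` -/
theorem eleven_two (hKS : ∀ (T : Type) [Group T] [Finite T] [IsSimpleGroup T], IsKnownSimple' T)
    (hP5 : H659.CovCore.S5948Stmt.{0}) (h : Cx hI X Y 2 1 11 (2 * 11)) (hP : ¬ IsPlus Q)
    (hT9 : ∀ t, PP 2 9 t → t ∣ Nat.card T)
    (hX : 683 ∣ Nat.card (X.subgroupOf T)) : ∃ v, ResV hI Y v := by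
  have hF : Nat.card F = 2 := by rw [h.card]; norm_num
  have hι : Fintype.card ι = 22 := h.dim
  have hirr := not_red h (by norm_num) (r := 683) (by rw [hF]; exact pp_2_22_683) hX
  have hB : Big T X 2 1 (2 * 11) := ⟨683, 1, pp_2_22_683, by norm_num, by norm_num, by simpa using hX⟩
  have hLX := field_of_list hirr (h.list hP5 (by norm_num) (k := 22) (by norm_num) (by norm_num) hB)
  obtain ⟨hY2, hYt, hred⟩ := minus_mem_odd h (by norm_num) (by decide) hP (r0 := 683) (r2 := 41) (t := 73)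
    (by rw [hF]; exact pp_2_22_683) (by rw [hF]; exact pp_2_20_41) (by rw [hF]; exact pp_2_9_73) hX
    (mem_or' h (k := 20) (by decide) (by norm_num) (by norm_num) (by norm_num) pp_2_20_41 (by norm_num))
    (mem_or h (k := 9) (by norm_num) pp_2_9_73 (hT9 _ pp_2_9_73))
    (fun _ => hLX)
    (fun h1 h2 => ex_two_of_list (by decide) (list_ref hKS h.symm (q := 2) (n := 22) (k := 20) (r := 41) (l := 73)
      (by decide) hF rfl h2 h1))
  have h41 := hY2.trans (card_dvd_preG (eT := eT))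
  have h73 := hYt.trans (card_dvd_preG (eT := eT))
  rcases minus_fac h (by norm_num) hP (r2 := 41) (by rw [hF]; exact pp_2_20_41) hY2 hred
    (Or.inr (Or.inl ⟨by decide, 73, by rw [hF]; exact pp_2_9_73, hYt⟩))
    (slo_2_20 hKS hF hι h41 (Or.inl h73)) (fun h2 => absurd (two_eq_zero hF) h2)
    (fun _ => sls_2_20 hKS hF hι h41 (Or.inl h73))
    with hv | ⟨hall, S, x, hx, hx0, hxS, hS2, hYS⟩
  · exact hv
  · exfalso
    exact H96.Rg.minus_odd_no h (by norm_num) (by decide) hP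
      (fun hE hN ht => kx_ge hP5 h (by norm_num) (by decide) hB hE hN ht)
      (by norm_num) (by norm_num) (r0 := 683) (r2 := 41) (r4 := 19) (t1 := 11)
      (by rw [hF]; exact pp_2_22_683) hX (by rw [hF]; exact pp_2_20_41) hY2 pp_2_18_19
      (hall 18 19 (by decide) (by norm_num) (by norm_num) (by rw [hF]; exact pp_2_18_19)) pp_2_10_11 hx hx0 hxS hS2 hYS hLX

/-- **`PΩ^-_20(2)`, `PΩ^-_20(3)`** -/
theorem ten_bad (hP5 : H659.CovCore.S5948Stmt.{0})
    (hKS : ∀ (T : Type) [Group T] [Finite T] [IsSimpleGroup T], IsKnownSimple' T) {p : ℕ}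
    (h : Cx hI X Y p 1 10 (2 * 10)) (hp : p = 2 ∨ p = 3) (hP : ¬ IsPlus Q)
    (hT9 : ∀ t, PP p 9 t → t ∣ Nat.card T) (hT7 : ∀ t, PP p 7 t → t ∣ Nat.card T) :
    (∃ v, ResV hI X v) ∨ (∃ v, ResV hI Y v) := by
  rcases hp with rfl | rfl
  · rcases mem_or' h (k := 20) (by decide) (by norm_num) (by norm_num) (by norm_num) pp_2_20_41 (by norm_num) with h1 | h1
    · exact Or.inr (ten_two hKS hP5 h hP hT9 hT7 h1)
    · exact Or.inl (ten_two hKS hP5 h.symm hP hT9 hT7 h1)
  · rcases mem_or' h (k := 20) (by decide) (by norm_num) (by norm_num) (by norm_num) pp_3_20_1181 (by norm_num)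
      with h1 | h1
    · exact Or.inr (ten_three hKS hP5 h hP hT9 hT7 h1)
    · exact Or.inl (ten_three hKS hP5 h.symm hP hT9 hT7 h1)

/-- **`PΩ^-_22(2)`** -/
theorem eleven_bad (hP5 : H659.CovCore.S5948Stmt.{0})
    (hKS : ∀ (T : Type) [Group T] [Finite T] [IsSimpleGroup T], IsKnownSimple' T)
    (h : Cx hI X Y 2 1 11 (2 * 11)) (hP : ¬ IsPlus Q) (hT9 : ∀ t, PP 2 9 t → t ∣ Nat.card T) :
    (∃ v, ResV hI X v) ∨ (∃ v, ResV hI Y v) := by
  rcases mem_or' h (k := 22) (by decide) (by norm_num) (by norm_num) (by norm_num) pp_2_22_683 (by norm_num) with h1 | h1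
  · exact Or.inr (eleven_two hKS hP5 h hP hT9 h1)
  · exact Or.inl (eleven_two hKS hP5 h.symm hP hT9 h1)

end zero

end Cfsg.Agent.H198.Mr
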