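import Cfsg.Agent.H198.Mr.Bad

/-!
# S3691: the exceptional pairs `m = 10, 11` of the minus type in the form of helper964's reduction (helper198)
-/

set_option autoImplicit false
set_option linter.unusedSectionVars false

namespace Cfsg.Agent.H198.Mr

open Module QuadraticMap Cfsg Cfsg.Geo Cfsg.Agent.LieClassical.OrthCore Cfsg.Agent.LieClassical.OrthTrans
  Cfsg.Agent.H454.Reg Cfsg.Agent.H884.El Cfsg.Agent.H955 Cfsg.Agent.H954.TSing Cfsg.Agent.H449.Reg Cfsg.Agent.H964.Rg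
open scoped MatrixGroups Matrix

universe u v

theorem eq_2_9 {t : ℕ} (h : PP 2 9 t) : t = 73 := by
  have h1 : t ∣ 7 * 73 := by simpa using (h.dvd_iff (by norm_num) 9).2 dvd_rfl
  rcases (h.prime.dvd_mul).1 h1 with h2 | h2
  · rw [(Nat.prime_dvd_prime_iff_eq h.prime (by norm_num)).1 h2] at h
    have h3 := (h.dvd_iff (by norm_num) 3).1 (by norm_num)
    omega
  · exact (Nat.prime_dvd_prime_iff_eq h.prime (by norm_num)).1 h2

theorem eq_2_7 {t : ℕ} (h : PP 2 7 t) : t = 127 := by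
  have h1 : t ∣ 127 := by simpa using (h.dvd_iff (by norm_num) 7).2 dvd_rfl
  exact (Nat.prime_dvd_prime_iff_eq h.prime (by norm_num)).1 h1

theorem eq_3_9 {t : ℕ} (h : PP 3 9 t) : t = 757 := by
  have h1 : t ∣ (2 * 13) * 757 := by simpa using (h.dvd_iff (by norm_num) 9).2 dvd_rfl
  rcases (h.prime.dvd_mul).1 h1 with h2 | h2
  · have h3 := (h.dvd_iff (by norm_num) 3).1 (h2.trans (by norm_num))
    omega
  · exact (Nat.prime_dvd_prime_iff_eq h.prime (by norm_num)).1 h2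

theorem eq_3_7 {t : ℕ} (h : PP 3 7 t) : t = 1093 := by
  have h1 : t ∣ 2 * 1093 := by simpa using (h.dvd_iff (by norm_num) 7).2 dvd_rfl
  rcases (h.prime.dvd_mul).1 h1 with h2 | h2
  · have h3 := (h.dvd_iff (by norm_num) 1).1 (h2.trans (by norm_num))
    omega
  · exact (Nat.prime_dvd_prime_iff_eq h.prime (by norm_num)).1 h2

theorem pow_two_eq {p f : ℕ} (hp : p.Prime) (h : p ^ f = 2) : p = 2 ∧ f = 1 := by
  have h1 : p ∣ 2 := by
    rw [← h]
    refine dvd_pow_self p fun h0 => ?_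
    rw [h0, pow_zero] at h
    omega
  obtain rfl := (Nat.prime_dvd_prime_iff_eq hp Nat.prime_two).1 h1
  exact ⟨rfl, Nat.pow_right_injective le_rfl (by simpa using h)⟩

theorem pow_three_eq {p f : ℕ} (hp : p.Prime) (h : p ^ f = 3) : p = 3 ∧ f = 1 := by
  have h1 : p ∣ 3 := by
    rw [← h]
    refine dvd_pow_self p fun h0 => ?_
    rw [h0, pow_zero] at h
    omega
  obtain rfl := (Nat.prime_dvd_prime_iff_eq hp Nat.prime_three).1 h1
  exact ⟨rfl, Nat.pow_right_injective (by norm_num : 2 ≤ 3) (by simpa using h)⟩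

variable {ι : Type} [Fintype ι] [DecidableEq ι] {F : Type} [Field F] [Fintype F] {Q : QuadraticForm F (ι → F)}
variable {G : Type u} [Group G] [Finite G] {T : Subgroup G} [T.Normal] {hG : Good Q} {eT : T ≃* POmega F (⇑Q)}
  {hI : Ind (eP hG eT)} {X Y : Subgroup G} {p f m : ℕ}

theorem ex_or (h : (∃ v, ResV hI X v) ∨ (∃ v, ResV hI Y v)) : ∃ v, ResV hI X v ∨ ResV hI Y v := by
  rcases h with ⟨v, h⟩ | ⟨v, h⟩
  · exact ⟨v, Or.inl h⟩
  · exact ⟨v, Or.inr h⟩

/-- the primes of odd order `k`, in the form of helper964 -/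
def OddP (T : Subgroup G) (q m : ℕ) : Prop :=
  ∀ k, Odd k → 3 ≤ k → k < m → ∃ t, PP q k t ∧ ¬ t ∣ Nat.card (Cfsg.Out T) ∧ t ∣ Nat.card T

/-- **`m = 10`, `q = 2, 3`** -/
theorem bad_ten (hP5 : H659.CovCore.S5948Stmt.{0})
    (hKS : ∀ (T : Type) [Group T] [Finite T] [IsSimpleGroup T], IsKnownSimple' T)
    (h : Cx hI X Y p f 10 (2 * 10)) (hP : ¬ IsPlus Q) (hodd : OddP T (Nat.card F) 10) (hq : p ^ f = 2 ∨ p ^ f = 3) :
    ∃ v, ResV hI X v ∨ ResV hI Y v := by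
  obtain ⟨t9, h9, -, hT9⟩ := hodd 9 (by decide) (by norm_num) (by norm_num)
  obtain ⟨t7, h7, -, hT7⟩ := hodd 7 (by decide) (by norm_num) (by norm_num)
  rw [h.card] at h9 h7
  rcases hq with hq | hq
  · obtain ⟨rfl, rfl⟩ := pow_two_eq h.prime hq
    rw [hq] at h9 h7
    rw [eq_2_9 h9] at hT9
    rw [eq_2_7 h7] at hT7
    exact ex_or (ten_bad hP5 hKS h (Or.inl rfl) hP (fun t ht => by rw [eq_2_9 ht]; exact hT9)
      (fun t ht => by rw [eq_2_7 ht]; exact hT7))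
  · obtain ⟨rfl, rfl⟩ := pow_three_eq h.prime hq
    rw [hq] at h9 h7
    rw [eq_3_9 h9] at hT9
    rw [eq_3_7 h7] at hT7
    exact ex_or (ten_bad hP5 hKS h (Or.inr rfl) hP (fun t ht => by rw [eq_3_9 ht]; exact hT9)
      (fun t ht => by rw [eq_3_7 ht]; exact hT7))

/-- **`m = 11`, `q = 2`** -/
theorem bad_eleven (hP5 : H659.CovCore.S5948Stmt.{0})
    (hKS : ∀ (T : Type) [Group T] [Finite T] [IsSimpleGroup T], IsKnownSimple' T)
    (h : Cx hI X Y p f 11 (2 * 11)) (hP : ¬ IsPlus Q) (hodd : OddP T (Nat.card F) 11) (hq : p ^ f = 2) :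
    ∃ v, ResV hI X v ∨ ResV hI Y v := by
  obtain ⟨t9, h9, -, hT9⟩ := hodd 9 (by decide) (by norm_num) (by norm_num)
  rw [h.card] at h9
  obtain ⟨rfl, rfl⟩ := pow_two_eq h.prime hq
  rw [hq] at h9
  rw [eq_2_9 h9] at hT9
  exact ex_or (eleven_bad hP5 hKS h hP fun t ht => by rw [eq_2_9 ht]; exact hT9)

end Cfsg.Agent.H198.Mr
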