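import Cfsg.Agent.H128.Rg.RefAbs
import Cfsg.Agent.H964.Rg.Slo

/-!
# S3691: the list lemma in the refined single cases, the whole space (helper198)

* `ref_core` : helper2's `small_ref` for matrices over any index set
* `list_ref` : a factor whose order is divisible by both primes of a tuple is reducible or of extension field type
-/

set_option autoImplicit false
set_option linter.unusedSectionVars false

namespace Cfsg.Agent.H198.Mr

open Module QuadraticMap Cfsg Cfsg.Geo Cfsg.Agent.LieClassical.OrthCore Cfsg.Agent.LieClassical.OrthTrans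
  Cfsg.Agent.H454.Reg Cfsg.Agent.H884.El Cfsg.Agent.H955 Cfsg.Agent.H954.TSing Cfsg.Agent.H449.Reg Cfsg.Agent.H964.Rg
  Cfsg.Agent.H659.CovCore
open Cfsg.Agent.H951 (fx cm Inv)
open Cfsg.Agent.H278.Cov (Red Ext)
open scoped MatrixGroups Matrix

universe u v

theorem ref_core (hKS : ∀ (T : Type u) [Group T] [Finite T] [IsSimpleGroup T], IsKnownSimple' T)
    {ι : Type} [Fintype ι] [DecidableEq ι] {F : Type u} [Field F] [Fintype F] {H : Subgroup (GL ι F)} {q n k r l : ℕ}
    (hm : (q, n, k, r, l) ∈ H2.Rb.refList) (hq : Nat.card F = q) (hn : Fintype.card ι = n)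
    (hr : r ∣ Nat.card H) (hl : l ∣ Nat.card H) (hirr : ¬ Red H) : H128.Rg.Five (Nat.gcd n k) H := by
  let e : ι ≃ Fin n := Fintype.equivFinOfCardEq hn
  have hc : Nat.card (H.map (glReindex (F := F) e).toMonoidHom) = Nat.card H :=
    Subgroup.card_map_of_injective (glReindex (F := F) e).injective
  rcases H2.Rb.small_ref hKS hm hq (H.map (glReindex (F := F) e).toMonoidHom) (by rw [hc]; exact hr) (by rw [hc]; exact hl)
    (irr_transport e hirr) with ⟨s, E, hs, hd, hE, hle⟩ | h | ⟨f, hf, h⟩ | ⟨τ, f, hf, h⟩ | ⟨Q, hQ, h⟩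
  · obtain ⟨E', hE', hle'⟩ := ext_transport e hE hle
    exact Or.inl ⟨s, E', hs, hd, hE', hle'⟩
  · exact Or.inr (Or.inl (sl_transport e h))
  · exact Or.inr (Or.inr (Or.inl ⟨_, symp_transport e hf, fun x hx => mem_of_map (e := e) (h _ (fixes_transport e hx))⟩))
  · exact Or.inr (Or.inr (Or.inr (Or.inl ⟨τ, _, unitary_transport e hf, fun x hx hd =>
      mem_of_map (e := e) (h _ (fixes_transport e hx) (by rw [det_glReindex]; exact hd))⟩)))
  · exact Or.inr (Or.inr (Or.inr (Or.inr ⟨_, quad_transport e hQ, omega_transport e h⟩)))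

variable {ι : Type} [Fintype ι] [DecidableEq ι] {F : Type v} [Field F] [Fintype F] {Q : QuadraticForm F (ι → F)}
variable {G : Type u} [Group G] [Finite G] {T : Subgroup G} [T.Normal] {hG : Good Q} {eT : T ≃* POmega F (⇑Q)}
  {hI : Ind (eP hG eT)} {X Y : Subgroup G} {p f m N : ℕ}

/-- **the list lemma in the refined single cases** -/
theorem list_ref (hKS : ∀ (T : Type v) [Group T] [Finite T] [IsSimpleGroup T], IsKnownSimple' T) (h : Cx hI X Y p f m N)
    {q n k r l : ℕ} (hm : (q, n, k, r, l) ∈ H2.Rb.refList) (hq : Nat.card F = q) (hn : 2 * m = n)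
    (hr : r ∣ Nat.card (X.subgroupOf T)) (hl : l ∣ Nat.card (X.subgroupOf T)) :
    Red (preG eT X) ∨ Ext (Nat.gcd n k) (preG eT X) := by
  have hten := H128.Rg.refList_ten _ hm
  by_cases hred : Red (preG eT X)
  · exact Or.inl hred
  right
  have h5 := ref_core hKS hm hq (by rw [h.dim, hn]) (hr.trans card_dvd_preG) (hl.trans card_dvd_preG) hred
  rcases H128.Rg.og_core (by rw [h.dim, hn]; exact hten) (H884.OddForm.isNondegenerate_of_nondeg _ hG.nondeg) (H := preG eT X)
    (fun x hx => LieClassical.OrthFinite.mem_isometryGroup_iff.1 (preG_le hx)) h5 with h1 | h1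
  · exact h1
  · exact absurd h1 (not_omega_le h.fac.not_le_left)

end Cfsg.Agent.H198.Mr
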